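import Cfsg.Agent.Spec.TorusTwo
import Cfsg.Agent.Spec.PSLTwoClass
import Cfsg.Agent.Linear.Orders
import Cfsg.Agent.S3370

/-!
# Self-centralising non-cyclic subgroups in `PSL(2, q)`
-/

set_option autoImplicit false

namespace Cfsg.Agent.SelfCentNC

open Matrix
open scoped MatrixGroups
open Cfsg.Agent.Spec.Two

variable {F : Type*} [Field F] [Fintype F]

local notation "M₂" => Matrix (Fin 2) (Fin 2) F
local notation "L₂" => Matrix.ProjectiveSpecialLinearGroup (Fin 2) F

theorem map_centralizer_eq {g : SL(2, F)} (hcond : (g : M₂).trace ≠ 0 ∨ (2 : F) = 0) :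
    Subgroup.centralizer ({π g} : Set L₂) = (Subgroup.centralizer ({g} : Set SL(2, F))).map π := by
  rw [← comap_eq_of g hcond, Subgroup.map_comap_eq_self_of_surjective π_surjective]

/-- The conic of trace zero. -/
theorem conic_zero (h2 : (2 : F) ≠ 0) :
    Nat.card {v : F × F // qf (0 : F) v = 1} =
      if Fintype.card F % 4 = 3 then Fintype.card F + 1 else Fintype.card F - 1 := by
  by_cases hs : IsSquare (-1 : F)
  · rw [if_neg (FiniteField.isSquare_neg_one_iff.1 hs)]
    obtain ⟨r, hr⟩ := hs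
    refine card_qf_split (r := r) (by linear_combination -hr) fun h => h2 ?_
    exact pow_eq_zero_iff two_ne_zero |>.1 (by linear_combination -h : (2 : F) ^ 2 = 0)
  · have h3 : Fintype.card F % 4 = 3 := by
      by_contra hne; exact hs (FiniteField.isSquare_neg_one_iff.2 hne)
    rw [if_pos h3]
    exact card_qf_nonsplit fun r hr => hs ⟨r, by linear_combination -hr⟩

theorem trace_sq_ne {g : SL(2, F)} (h2 : (2 : F) ≠ 0) (ht : (g : M₂).trace = 0) :
    (g : M₂).trace ^ 2 ≠ 4 := fun h => h2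
  (pow_eq_zero_iff two_ne_zero |>.1 (by rw [ht] at h; linear_combination -h : (2 : F) ^ 2 = 0))

theorem card_centralizer_zero {g : SL(2, F)} (h2 : (2 : F) ≠ 0) (ht : (g : M₂).trace = 0) :
    Nat.card (Subgroup.centralizer ({g} : Set SL(2, F))) =
      if Fintype.card F % 4 = 3 then Fintype.card F + 1 else Fintype.card F - 1 := by
  rw [card_centralizer_eq g (ns_of_trace_sq g.2 (trace_sq_ne h2 ht)), ht, conic_zero h2]

theorem π_involution_of_trace_zero {g : SL(2, F)} (ht : (g : M₂).trace = 0) : π g * π g = 1 := by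
  have h : π g⁻¹ = π g := (π_eq_iff.2 ⟨-1, by ring, by
    rw [coe_inv_eq, ht, zero_smul, zero_sub, smul_neg, neg_one_smul, neg_neg]⟩)
  rw [map_inv] at h
  rwa [inv_eq_iff_mul_eq_one] at h

theorem trace_zero_of_involution {g : SL(2, F)} (hne : π g ≠ 1) (h : π g * π g = 1) :
    (g : M₂).trace = 0 := by
  by_contra ht
  have h' : π g⁻¹ = π g := by rw [map_inv]; exact inv_eq_of_mul_eq_one_left h
  obtain ⟨c, -, hc⟩ := π_eq_iff.1 h'
  rw [coe_inv_eq] at hc
  -- `g` is a combination of scalars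
  have h1 : ((1 : F) + c) • (g : M₂) = (c * (g : M₂).trace) • (1 : M₂) := by
    rw [add_smul, one_smul, ← smul_smul]
    nth_rewrite 1 [hc]
    rw [smul_sub]; abel
  by_cases hc1 : (1 : F) + c = 0
  · rw [hc1, zero_smul] at h1
    have := congrFun (congrFun h1.symm 0) 0
    simp only [Matrix.smul_apply, Matrix.one_apply_eq, smul_eq_mul, mul_one, Matrix.zero_apply] at this
    rcases mul_eq_zero.1 this with e | e
    · rw [e, add_zero] at hc1; exact one_ne_zero hc1
    · exact ht e
  · refine hne (π_eq_one_iff.2 ⟨(1 + c)⁻¹ * (c * (g : M₂).trace), ?_⟩)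
    rw [← smul_smul, ← h1, smul_smul, inv_mul_cancel₀ hc1, one_smul]

/-- If involution centralisers are 2-groups then `q = 9` or `q = 2 ^ k ± 1` is prime. -/
theorem card_cases (hodd : Odd (Fintype.card F)) {x : L₂} (hx : x ≠ 1) (hxx : x * x = 1)
    (h : IsPGroup 2 (Subgroup.centralizer ({x} : Set L₂))) :
    Fintype.card F = 9 ∨ ((Fintype.card F).Prime ∧
      ∃ k : ℕ, Fintype.card F = 2 ^ k + 1 ∨ Fintype.card F = 2 ^ k - 1) := by
  have h2 : (2 : F) ≠ 0 := fun h => by
    exact Nat.not_even_iff_odd.2 hodd (even_iff_two_dvd.2 (two_eq_zero_iff.1 h))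
  obtain ⟨g, rfl⟩ := π_surjective x
  have ht := trace_zero_of_involution hx hxx
  have hker : IsPGroup 2 (π (F := F)).ker := fun z => ⟨1, by
    rw [pow_one, pow_two]
    apply Subtype.ext
    obtain ⟨c, hc, hz⟩ := π_eq_iff.1 ((show π (z : SL(2, F)) = π 1 by rw [map_one]; exact z.2).symm)
    rw [Matrix.SpecialLinearGroup.coe_one] at hz
    apply Subtype.ext
    show ((z : SL(2, F)) : M₂) * ((z : SL(2, F)) : M₂) = 1
    rw [hz, Matrix.smul_mul, Matrix.one_mul, smul_smul, ← pow_two, hc, one_smul]⟩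
  have hC : IsPGroup 2 (Subgroup.centralizer ({g} : Set SL(2, F))) := by
    refine (h.comap_of_ker_isPGroup π hker).to_le fun y hy => ?_
    rw [Subgroup.mem_comap, Subgroup.mem_centralizer_singleton_iff, ← map_mul, ← map_mul,
      Subgroup.mem_centralizer_singleton_iff.1 hy]
  haveI : Fact (Nat.Prime 2) := ⟨Nat.prime_two⟩
  obtain ⟨k, hk⟩ := IsPGroup.iff_card.1 hC
  rw [card_centralizer_zero h2 ht] at hk
  obtain ⟨p, f, hp, hqf⟩ : ∃ (p : ℕ) (f : ℕ+), p.Prime ∧ Fintype.card F = p ^ (f : ℕ) := by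
    obtain ⟨p, hp⟩ := CharP.exists F
    haveI := hp
    obtain ⟨n, hn⟩ := FiniteField.card F p
    exact ⟨p, n, hn⟩
  have hp2 : p ≠ 2 := by
    rintro rfl
    rw [hqf] at hodd
    exact Nat.not_even_iff_odd.2 hodd (even_two.pow_of_ne_zero f.ne_zero)
  split_ifs at hk with h4
  · right
    have e : 2 ^ k - 1 = p ^ (f : ℕ) := by rw [← hqf]; omega
    refine ⟨?_, k, Or.inr (by omega)⟩
    rw [hqf, Cfsg.Agent.S3370.eq_one_of_two_pow_sub_one_eq hp f.pos e, pow_one]
    exact hp
  · have hpos := Fintype.card_pos (α := F)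
    have e : p ^ (f : ℕ) = 2 ^ k + 1 := by rw [← hqf]; omega
    rcases Cfsg.Agent.S3370.pow_eq_two_pow_add_one hp hp2 f.pos e with hf | ⟨hp3, hf⟩
    · right
      refine ⟨?_, k, Or.inl (by omega)⟩
      rw [hqf, hf, pow_one]; exact hp
    · left; rw [hqf, hp3, hf]; rfl

theorem conic_two_pow (h2 : (2 : F) ≠ 0) (hq : Fintype.card F = 4 ∨ Fintype.card F = 9 ∨
    ((Fintype.card F).Prime ∧ ∃ k : ℕ, Fintype.card F = 2 ^ k + 1 ∨ Fintype.card F = 2 ^ k - 1)) :
    ∃ k : ℕ, (if Fintype.card F % 4 = 3 then Fintype.card F + 1 else Fintype.card F - 1) = 2 ^ k := by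
  have hodd : ¬ 2 ∣ Fintype.card F := fun h => h2 (two_eq_zero_iff.2 h)
  rcases hq with h | h | ⟨-, k, h | h⟩
  · exact absurd (by omega : 2 ∣ Fintype.card F) hodd
  · exact ⟨3, by rw [h]; rfl⟩
  · rcases Nat.lt_or_ge k 2 with hk | hk
    · interval_cases k
      · exact absurd (by omega : 2 ∣ Fintype.card F) hodd
      · exact ⟨2, by rw [h]; rfl⟩
    · obtain ⟨c, hc⟩ := pow_dvd_pow 2 hk
      refine ⟨k, ?_⟩
      rw [if_neg (by omega), h]; omega
  · have h1 := Fintype.one_lt_card (α := F)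
    rcases Nat.lt_or_ge k 2 with hk | hk
    · interval_cases k <;> omega
    · obtain ⟨c, hc⟩ := pow_dvd_pow 2 hk
      refine ⟨k, ?_⟩
      rw [if_pos (by omega), h]; omega

theorem psl_scn (hq : Fintype.card F = 4 ∨ Fintype.card F = 9 ∨
    ((Fintype.card F).Prime ∧ ∃ k : ℕ, Fintype.card F = 2 ^ k + 1 ∨ Fintype.card F = 2 ^ k - 1))
    (H : Subgroup L₂) (hH : ¬ IsCyclic ↥H) : Subgroup.centralizer (H : Set L₂) ≤ H := by
  classical
  intro x hx
  by_contra hxH
  have hHC : H ≤ Subgroup.centralizer ({x} : Set L₂) := fun y hy =>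
    Subgroup.mem_centralizer_singleton_iff.2 (Subgroup.mem_centralizer_iff.1 hx y hy)
  obtain ⟨g, rfl⟩ := π_surjective x
  have hne : π g ≠ 1 := fun h => hxH (h ▸ one_mem _)
  have hns := ns_of_π_ne_one hne
  by_cases hs : (g : M₂).trace ^ 2 = 4
  · -- unipotent elements
    have hcond : (g : M₂).trace ≠ 0 ∨ (2 : F) = 0 := by
      by_contra h
      push Not at h
      exact trace_sq_ne h.2 h.1 hs
    have hcardG := card_centralizer_eq g hns
    rw [card_qf_parabolic hs] at hcardG
    have e1 := Subgroup.index_comap_of_surjective (Subgroup.centralizer ({π g} : Set L₂)) π_surjective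
    rw [comap_eq_of g hcond] at e1
    have e2 := Subgroup.card_mul_index (Subgroup.centralizer ({g} : Set SL(2, F)))
    rw [e1, hcardG, ← Linear.card_PSL_mul,
      ← Subgroup.card_mul_index (Subgroup.centralizer ({π g} : Set L₂)), ← mul_assoc] at e2
    have e3 := Nat.eq_of_mul_eq_mul_right (Nat.pos_of_ne_zero Subgroup.index_ne_zero_of_finite) e2
    have hg : Nat.card {s : F // s ^ 2 = 1} = Nat.gcd (Fintype.card (Fin 2)) (Fintype.card F - 1) := by
      rw [card_sq_one, Fintype.card_fin]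
      have := Fintype.one_lt_card (α := F)
      split_ifs with h2
      · obtain ⟨m, hm⟩ := two_eq_zero_iff.1 h2
        exact ((Nat.prime_two.coprime_iff_not_dvd).2 (by omega) : Nat.Coprime 2 (Fintype.card F - 1)).gcd_eq_one.symm
      · rw [Nat.gcd_eq_left (by
          have : ¬ 2 ∣ Fintype.card F := fun h => h2 (two_eq_zero_iff.2 h)
          omega)]
    rw [hg] at e3
    have hCq : Nat.card (Subgroup.centralizer ({π g} : Set L₂)) = Fintype.card F :=
      (Nat.eq_of_mul_eq_mul_left (Nat.gcd_pos_of_pos_left _ (by simp)) e3).symm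
    have hHdvd : Nat.card H ∣ Fintype.card F := hCq ▸ Subgroup.card_dvd_of_le hHC
    obtain ⟨p, j, hp, hj, hqp⟩ : ∃ p j, p.Prime ∧ j ≤ 2 ∧ Fintype.card F = p ^ j := by
      rcases hq with h | h | ⟨h, -⟩
      · exact ⟨2, 2, Nat.prime_two, le_rfl, by rw [h]; rfl⟩
      · exact ⟨3, 2, Nat.prime_three, le_rfl, by rw [h]; rfl⟩
      · exact ⟨_, 1, h, by norm_num, (pow_one _).symm⟩
    haveI : Fact p.Prime := ⟨hp⟩
    rw [hqp] at hHdvd hCq
    obtain ⟨i, hi, hHi⟩ := (Nat.dvd_prime_pow hp).1 hHdvd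
    rcases (by omega : i = 0 ∨ i = 1 ∨ i = j) with rfl | rfl | rfl
    · exact hH (haveI := (Nat.card_eq_one_iff_unique.1 hHi).1; inferInstance)
    · exact hH (isCyclic_of_prime_card (p := p) (hHi.trans (pow_one p)))
    · exact hxH ((Subgroup.eq_of_le_of_card_ge hHC (by rw [hCq, hHi])).symm ▸
        Subgroup.mem_centralizer_singleton_iff.2 rfl)
  haveI hcyc : IsCyclic (Subgroup.centralizer ({g} : Set SL(2, F))) := isCyclic_centralizer g hs
  haveI hA : IsCyclic ((Subgroup.centralizer ({g} : Set SL(2, F))).map (π (F := F))) :=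
    isCyclic_of_surjective _ (π.subgroupMap_surjective (Subgroup.centralizer ({g} : Set SL(2, F))))
  by_cases hcond : (g : M₂).trace ≠ 0 ∨ (2 : F) = 0
  · rw [map_centralizer_eq hcond] at hHC
    exact hH (Subgroup.isCyclic_of_le hHC)
  -- involutions
  push Not at hcond
  obtain ⟨ht, h2⟩ := hcond
  set A := (Subgroup.centralizer ({g} : Set SL(2, F))).map (π (F := F)) with hAdef
  have hcA : π g ∈ A := ⟨g, Subgroup.mem_centralizer_singleton_iff.2 rfl, rfl⟩
  haveI : Fact (Nat.Prime 2) := ⟨Nat.prime_two⟩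
  obtain ⟨k, hk⟩ := conic_two_pow h2 hq
  have hAp : IsPGroup 2 A :=
    (IsPGroup.of_card ((card_centralizer_zero h2 ht).trans hk)).map _
  have hcap : ∀ y ∈ H, y ∈ A → y = 1 := by
    intro y hyH hyA
    by_contra hy
    obtain ⟨j, hj⟩ := IsPGroup.iff_orderOf.1 hAp ⟨y, hyA⟩
    rw [Subgroup.orderOf_mk] at hj
    rcases j with _ | j
    · exact hy (orderOf_eq_one_iff.1 (by simpa using hj))
    have hw : orderOf (y ^ 2 ^ j) = 2 := by
      rw [orderOf_pow, hj, Nat.gcd_eq_right ⟨2, by ring⟩, pow_succ, Nat.mul_div_cancel_left _ (by positivity)]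
    have hg2 : orderOf (π g) = 2 :=
      orderOf_eq_prime (by rw [pow_two]; exact π_involution_of_trace_zero ht) hne
    haveI : Fintype A := Fintype.ofFinite _
    have h3 := IsCyclic.card_pow_eq_one_le (α := A) (show 0 < 2 by norm_num)
    have hwne : y ^ 2 ^ j ≠ π g := fun h => hxH (h ▸ pow_mem hyH _)
    have h5 : ({1, ⟨π g, hcA⟩, ⟨y ^ 2 ^ j, pow_mem hyA _⟩} : Finset A).card = 3 := by
      rw [Finset.card_eq_three]
      refine ⟨1, ⟨π g, hcA⟩, ⟨y ^ 2 ^ j, pow_mem hyA _⟩, ?_, ?_, ?_, rfl⟩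
      · exact fun h => hne (congrArg Subtype.val h).symm
      · intro h
        have := congrArg Subtype.val h
        rw [Subgroup.coe_one] at this
        simp only at this
        rw [← this, orderOf_one] at hw
        exact absurd hw (by norm_num)
      · exact fun h => hwne (congrArg Subtype.val h).symm
    have e1 : (y ^ 2 ^ j) ^ 2 = 1 := orderOf_dvd_iff_pow_eq_one.1 (dvd_of_eq hw)
    have e2 : (π g) ^ 2 = 1 := orderOf_dvd_iff_pow_eq_one.1 (dvd_of_eq hg2)
    have h4 := Finset.card_le_card (show ({1, ⟨π g, hcA⟩, ⟨y ^ 2 ^ j, pow_mem hyA _⟩} : Finset A) ⊆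
        (Finset.univ.filter fun a : A => a ^ 2 = 1) from fun a ha => by
      simp only [Finset.mem_insert, Finset.mem_singleton] at ha
      refine Finset.mem_filter.2 ⟨Finset.mem_univ _, Subtype.ext ?_⟩
      rcases ha with rfl | rfl | rfl
      · simp
      · exact e2
      · exact e1)
    omega
  -- `A` has index at most two in the centraliser
  have hle : A.relIndex H ≤ 2 := by
    have h1 : A.relIndex (Subgroup.centralizer ({π g} : Set L₂)) = 2 := by
      have hker : (π (F := F)).ker ≤ Subgroup.centralizer ({g} : Set SL(2, F)) := by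
        rw [QuotientGroup.ker_mk']
        exact fun z hz =>
          Subgroup.mem_centralizer_singleton_iff.2 (Subgroup.mem_center_iff.1 hz g).symm
      rw [← Subgroup.map_comap_eq_self_of_surjective π_surjective (Subgroup.centralizer ({π g} : Set L₂)),
        ← Subgroup.relIndex_comap, hAdef, Subgroup.comap_map_eq, sup_eq_left.2 hker]
      exact relIndex_comap_eq_two g ht h2
    calc A.relIndex H ≤ A.relIndex (Subgroup.centralizer ({π g} : Set L₂)) :=
          Subgroup.relIndex_le_of_le_right hHC (by omega)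
      _ = 2 := h1
  have hbot : A.subgroupOf H = ⊥ := by
    rw [Subgroup.eq_bot_iff_forall]
    exact fun y hy => Subtype.ext (hcap y y.2 hy)
  rw [Subgroup.relIndex, hbot, Subgroup.index_bot] at hle
  have hpos : 0 < Nat.card H := Nat.card_pos
  rcases (by omega : Nat.card H = 1 ∨ Nat.card H = 2) with h | h
  · exact hH (haveI := (Nat.card_eq_one_iff_unique.1 h).1; inferInstance)
  · exact hH (isCyclic_of_prime_card h)

end Cfsg.Agent.SelfCentNC
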