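import Cfsg.Agent.TwoFusion.QDFusion
import Cfsg.Agent.TwoFusion.SEBasic
import Cfsg.Agent.TwoGroups.Classification
import Cfsg.Agent.TwoGroups.UniqueInvolution
import Cfsg.Agent.Invol.BaerSuzuki
import Cfsg.Agent.Cores.Basic
import Cfsg.Agent.SmallGroups.Basic
import Cfsg.Agent.S0112
import Cfsg.Agent.S0113
import Cfsg.Agent.S0201

/-!
# Simple groups in which non-cyclic subgroups are self-centralising: the Sylow 2-subgroups
-/

set_option autoImplicit false

namespace Cfsg.Agent.SelfCentNC

open Subgroup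
open Cfsg.Agent.TwoGroups

universe u

/-- Non-cyclic subgroups contain their centralisers. -/
abbrev SCN (G : Type*) [Group G] : Prop :=
  ∀ H : Subgroup G, ¬ IsCyclic ↥H → Subgroup.centralizer (H : Set G) ≤ H

variable {G : Type u} [Group G]

theorem not_cyclic_of_two {H : Subgroup G} {t v : G} (htH : t ∈ H) (hvH : v ∈ H)
    (ht : orderOf t = 2) (hv : orderOf v = 2) (hne : t ≠ v) [Finite G] : ¬ IsCyclic ↥H := by
  classical
  intro hc
  haveI : Fintype H := Fintype.ofFinite _
  have h3 := IsCyclic.card_pow_eq_one_le (α := H) (show 0 < 2 by norm_num)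
  have h5 : ({1, ⟨t, htH⟩, ⟨v, hvH⟩} : Finset H).card = 3 := by
    rw [Finset.card_eq_three]
    exact ⟨1, ⟨t, htH⟩, ⟨v, hvH⟩, fun h => TwoFusion.involution_ne_one ht (congrArg Subtype.val h).symm,
      fun h => TwoFusion.involution_ne_one hv (congrArg Subtype.val h).symm,
      fun h => hne (congrArg Subtype.val h), rfl⟩
  have h4 := Finset.card_le_card (show ({1, ⟨t, htH⟩, ⟨v, hvH⟩} : Finset H) ⊆
      (Finset.univ.filter fun a : H => a ^ 2 = 1) from fun a ha => by
    simp only [Finset.mem_insert, Finset.mem_singleton] at ha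
    rcases ha with rfl | rfl | rfl <;>
      simp [pow_two, Subtype.ext_iff, TwoFusion.involution_mul_self ht, TwoFusion.involution_mul_self hv])
  omega

variable [Finite G]

/-- Two commuting involutions have common centraliser of order at most four. -/
theorem card_centralizer_four (hG : SCN G) {t v : G} (ht : orderOf t = 2) (hv : orderOf v = 2)
    (hc : t * v = v * t) (hne : t ≠ v) :
    Nat.card ↥(centralizer ({t} : Set G) ⊓ centralizer ({v} : Set G)) ≤ 4 := by
  classical
  have htt := TwoFusion.involution_mul_self ht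
  have hvv := TwoFusion.involution_mul_self hv
  let W : Subgroup G :=
    { carrier := {x | x = 1 ∨ x = t ∨ x = v ∨ x = t * v}
      one_mem' := Or.inl rfl
      mul_mem' := by
        have e1 : v * (t * v) = t := by rw [hc, ← mul_assoc, hvv, one_mul]
        have e2 : t * (t * v) = v := by rw [← mul_assoc, htt, one_mul]
        have e3 : t * v * t = v := by rw [hc, mul_assoc, htt, mul_one]
        have e4 : t * v * v = t := by rw [mul_assoc, hvv, mul_one]
        have e5 : t * v * (t * v) = 1 := by rw [← mul_assoc, e3, hvv]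
        rintro x y (rfl | rfl | rfl | rfl) (rfl | rfl | rfl | rfl) <;>
          simp [htt, hvv, ← hc, e1, e2, e3, e4, e5]
      inv_mem' := by
        rintro x (rfl | rfl | rfl | rfl)
        · simp
        · simp [TwoFusion.involution_inv ht]
        · simp [TwoFusion.involution_inv hv]
        · simp [TwoFusion.involution_inv ht, TwoFusion.involution_inv hv, ← hc] }
  have hle : centralizer ({t} : Set G) ⊓ centralizer ({v} : Set G) ≤ W := by
    refine le_trans ?_ (hG W (not_cyclic_of_two (H := W) (Or.inr (Or.inl rfl))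
      (Or.inr (Or.inr (Or.inl rfl))) ht hv hne))
    rintro x ⟨hxt, hxv⟩
    replace hxt : x * t = t * x := mem_centralizer_singleton_iff.1 hxt
    replace hxv : x * v = v * x := mem_centralizer_singleton_iff.1 hxv
    rw [mem_centralizer_iff]
    rintro y (rfl | rfl | rfl | rfl)
    · simp
    · exact hxt.symm
    · exact hxv.symm
    · rw [mul_assoc, ← hxv, ← mul_assoc, ← hxt, mul_assoc]
  refine (Subgroup.card_le_of_le hle).trans ?_
  calc Nat.card W ≤ Nat.card ({1, t, v, t * v} : Finset G) :=
        Nat.card_le_card_of_injective (fun x => (⟨x.1, by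
          rcases x.2 with h | h | h | h <;> simp [h]⟩ : ({1, t, v, t * v} : Finset G)))
          fun a b h => Subtype.ext (congrArg Subtype.val h :)
    _ ≤ 4 := by rw [Nat.card_eq_finsetCard]; exact Finset.card_le_four

/-- The centraliser of a central involution of a Sylow 2-subgroup is that Sylow subgroup. -/
theorem centralizer_le_sylow (hG : SCN G) (S : Sylow 2 G) {A : Subgroup G}
    (hAS : A ≤ (S : Subgroup G)) (hAc : IsCyclic ↥A)
    (hidx : 2 * Nat.card A = Nat.card (S : Subgroup G)) {t v : G} (htA : t ∈ A) (ht : orderOf t = 2)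
    (htZ : ∀ s ∈ (S : Subgroup G), s * t = t * s) (hvS : v ∈ (S : Subgroup G))
    (hv : orderOf v = 2) (hvA : v ∉ A) :
    centralizer ({t} : Set G) = (S : Subgroup G) := by
  classical
  haveI : Fact (Nat.Prime 2) := ⟨Nat.prime_two⟩
  set C := centralizer ({t} : Set G) with hC
  have hSC : (S : Subgroup G) ≤ C := fun s hs => mem_centralizer_singleton_iff.2 (htZ s hs)
  have htv : t ≠ v := fun h => hvA (h ▸ htA)
  -- every involution of `C` lies in `S`
  have hinS : ∀ w ∈ C, orderOf w = 2 → w ≠ t → w ∈ (S : Subgroup G) := by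
    intro w hwC hw hwt
    by_contra hwS
    have hwt' : w * t = t * w := mem_centralizer_singleton_iff.1 hwC
    obtain ⟨h, hh1, hhodd, hhinv⟩ := Invol.exists_inverted_odd (⟨w, hwC⟩ : C)
      (by rw [Subgroup.orderOf_mk]; exact hw) (fun N hN hNp hmem => hwS ((haveI := hN;
        (Cores.le_pCore hN hNp).trans (Cores.pCore_le_sylow (S.subtype hSC))) hmem))
    have hodd : Odd (orderOf (h : G)) := by rwa [Subgroup.orderOf_coe]
    have hht : (h : G) * t = t * h := mem_centralizer_singleton_iff.1 h.2
    have hinv : w * (h : G) * w⁻¹ = (h : G)⁻¹ := congrArg Subtype.val hhinv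
    have hww := TwoFusion.involution_mul_self hw
    have hkey : ∀ i : ℤ, w * (h : G) ^ i = (h : G) ^ (-i) * w := by
      intro i
      have := congrArg (· ^ i) hinv
      simp only [conj_zpow, inv_zpow'] at this
      rw [← this]; group
    let H : Subgroup G :=
      { carrier := {x | ∃ i : ℤ, x = (h : G) ^ i ∨ x = (h : G) ^ i * w}
        one_mem' := ⟨0, Or.inl (zpow_zero _).symm⟩
        mul_mem' := by
          rintro _ _ ⟨i, rfl | rfl⟩ ⟨j, rfl | rfl⟩
          · exact ⟨i + j, Or.inl (zpow_add _ _ _).symm⟩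
          · exact ⟨i + j, Or.inr (by rw [zpow_add, mul_assoc])⟩
          · exact ⟨i + -j, Or.inr (by rw [mul_assoc, hkey, ← mul_assoc, ← zpow_add])⟩
          · refine ⟨i + -j, Or.inl ?_⟩
            rw [show (h : G) ^ i * w * ((h : G) ^ j * w) = (h : G) ^ i * (w * (h : G) ^ j) * w by group,
              hkey, zpow_add, show (h : G) ^ i * ((h : G) ^ (-j) * w) * w
                = (h : G) ^ i * (h : G) ^ (-j) * (w * w) by group, hww, mul_one]
        inv_mem' := by
          rintro _ ⟨i, rfl | rfl⟩
          · exact ⟨-i, Or.inl (zpow_neg _ _).symm⟩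
          · refine ⟨i, Or.inr ?_⟩
            rw [mul_inv_rev, TwoFusion.involution_inv hw, ← zpow_neg, hkey, neg_neg] }
    have hnc : ¬ IsCyclic ↥H := by
      intro hcy
      have hcomm := congrArg Subtype.val
        ((IsCyclic.commutative (α := H)).is_comm.comm ⟨w, 0, Or.inr (by simp)⟩
          ⟨(h : G), 1, Or.inl (zpow_one _).symm⟩)
      simp only [Subgroup.coe_mul] at hcomm
      rw [hcomm, mul_inv_cancel_right] at hinv
      have h2 : orderOf (h : G) ∣ 2 := orderOf_dvd_of_pow_eq_one (by
        rw [pow_two]; nth_rewrite 1 [hinv]; exact inv_mul_cancel _)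
      apply hh1
      apply Subtype.ext
      rw [Subgroup.coe_one, ← orderOf_eq_one_iff]
      exact Nat.eq_one_of_dvd_coprimes (Nat.coprime_two_right.2 hodd) dvd_rfl h2
    obtain ⟨i, hi | hi⟩ := hG H hnc (show t ∈ centralizer (H : Set G) by
      rw [mem_centralizer_iff]
      rintro _ ⟨i, rfl | rfl⟩
      · exact (Commute.zpow_left hht i).eq
      · exact ((Commute.zpow_left hht i).mul_left hwt').eq)
    · have h2 : 2 ∣ orderOf (h : G) := by
        rw [← ht, hi]; exact orderOf_dvd_iff_pow_eq_one.2 (by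
          rw [← zpow_natCast, ← zpow_mul, mul_comm, zpow_mul, zpow_natCast, pow_orderOf_eq_one, one_zpow])
      exact Nat.not_even_iff_odd.2 hodd (even_iff_two_dvd.2 h2)
    · have e1 : (h : G) ^ i = t * w := by rw [hi, mul_assoc, hww, mul_one]
      have e2 : orderOf ((h : G) ^ i) ∣ 2 := orderOf_dvd_of_pow_eq_one (by
        rw [pow_two, e1, show t * w * (t * w) = t * (w * t) * w by group, hwt', ← mul_assoc,
          TwoFusion.involution_mul_self ht, one_mul, hww])
      have e3 : (h : G) ^ i = 1 := orderOf_eq_one_iff.1 (Nat.eq_one_of_dvd_coprimes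
        (Nat.coprime_two_right.2 hodd) (orderOf_dvd_iff_pow_eq_one.2 (by
          rw [← zpow_natCast, ← zpow_mul, mul_comm, zpow_mul, zpow_natCast, pow_orderOf_eq_one, one_zpow]))
        e2)
      rw [e3, one_mul] at hi
      exact hwt hi.symm
  -- involutions of `A`
  have hAinv : ∀ x ∈ A, orderOf x = 2 → x = t := by
    intro x hx hx2
    by_contra hne
    exact not_cyclic_of_two hx htA hx2 ht hne hAc
  have hA2 : (A.subgroupOf (S : Subgroup G)).index = 2 := by
    have h3 := Subgroup.card_mul_index (A.subgroupOf (S : Subgroup G))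
    rw [Nat.card_congr (Subgroup.subgroupOfEquivOfLe hAS).toEquiv, ← hidx, mul_comm 2] at h3
    exact Nat.eq_of_mul_eq_mul_left Nat.card_pos h3
  set K := (centralizer ({v} : Set G)).subgroupOf C with hK
  have hK4 : Nat.card K ≤ 4 := by
    refine le_trans ?_ (card_centralizer_four hG ht hv (htZ v hvS).symm htv)
    exact Nat.card_le_card_of_injective (fun x => (⟨(x.1 : G), ⟨x.1.2, x.2⟩⟩ :
      ↥(centralizer ({t} : Set G) ⊓ centralizer ({v} : Set G)))) fun a b h =>
      Subtype.ext (Subtype.ext (congrArg Subtype.val h :))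
  have hKidx : K.index ≤ Nat.card A := by
    have hwS : ∀ c : C, (c : G) * v * (c : G)⁻¹ ∈ (S : Subgroup G) ∧
        (c : G) * v * (c : G)⁻¹ ∉ A := by
      intro c
      have ho : orderOf ((c : G) * v * (c : G)⁻¹) = 2 := (TwoFusion.orderOf_conj' _ _).trans hv
      have hne : (c : G) * v * (c : G)⁻¹ ≠ t := fun e => htv (by
        have := mem_centralizer_singleton_iff.1 c.2
        calc t = (c : G)⁻¹ * (t * c) := by rw [← this]; group
          _ = (c : G)⁻¹ * ((c : G) * v * (c : G)⁻¹ * c) := by rw [e]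
          _ = v := by group)
      refine ⟨hinS _ (mul_mem (mul_mem c.2 (hSC hvS)) (inv_mem c.2)) ho hne,
        fun hA => hne (hAinv _ hA ho)⟩
    have hmemA : ∀ c : C, (c : G) * v * (c : G)⁻¹ * v ∈ A := fun c =>
      (Subgroup.mul_mem_iff_of_index_two hA2 (a := ⟨_, (hwS c).1⟩) (b := ⟨v, hvS⟩)).2
        (iff_of_false (hwS c).2 hvA)
    refine Nat.card_le_card_of_injective (fun q : C ⧸ K => Quotient.liftOn' q
      (fun c => (⟨_, hmemA c⟩ : A)) fun c d hcd => Subtype.ext ?_) ?_
    · rw [QuotientGroup.leftRel_apply] at hcd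
      have : ((c : G)⁻¹ * d) * v = v * ((c : G)⁻¹ * d) := mem_centralizer_singleton_iff.1 hcd
      show (c : G) * v * (c : G)⁻¹ * v = (d : G) * v * (d : G)⁻¹ * v
      congr 1
      calc (c : G) * v * (c : G)⁻¹ = (c : G) * (v * ((c : G)⁻¹ * d)) * (d : G)⁻¹ := by group
        _ = (d : G) * v * (d : G)⁻¹ := by rw [← this]; group
    · intro q r hqr
      induction q using QuotientGroup.induction_on with
      | H c =>
        induction r using QuotientGroup.induction_on with
        | H d =>
          have e : (c : G) * v * (c : G)⁻¹ = (d : G) * v * (d : G)⁻¹ :=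
            mul_right_cancel (congrArg Subtype.val hqr)
          rw [QuotientGroup.eq, hK, Subgroup.mem_subgroupOf, mem_centralizer_singleton_iff]
          push_cast
          calc (c : G)⁻¹ * d * v = (c : G)⁻¹ * ((d : G) * v * (d : G)⁻¹) * d := by group
            _ = v * ((c : G)⁻¹ * d) := by rw [← e]; group
  have hcard : Nat.card C ≤ 2 * Nat.card (S : Subgroup G) := by
    rw [← Subgroup.card_mul_index K, ← hidx]
    calc Nat.card K * K.index ≤ 4 * Nat.card A := Nat.mul_le_mul hK4 hKidx
      _ = 2 * (2 * Nat.card A) := by ring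
  have hodd : ¬ 2 ∣ ((S : Subgroup G).subgroupOf C).index := (S.subtype hSC).not_dvd_index
  have h1 := Subgroup.card_mul_index ((S : Subgroup G).subgroupOf C)
  rw [Nat.card_congr (Subgroup.subgroupOfEquivOfLe hSC).toEquiv] at h1
  have hpos : 0 < Nat.card (S : Subgroup G) := Nat.card_pos
  have h2 : ((S : Subgroup G).subgroupOf C).index ≤ 2 := by
    by_contra hlt
    push Not at hlt
    have := Nat.mul_le_mul_left (Nat.card (S : Subgroup G)) hlt
    rw [Nat.succ_eq_add_one, mul_add, mul_one] at this
    omega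
  have h3 : ((S : Subgroup G).subgroupOf C).index = 1 := by
    have : ((S : Subgroup G).subgroupOf C).index ≠ 0 := Subgroup.index_ne_zero_of_finite
    omega
  exact le_antisymm (Subgroup.subgroupOf_eq_top.1 (Subgroup.index_eq_one.1 h3)) hSC

section Simple

variable [IsSimpleGroup G]

theorem center_eq_bot (hna : ¬ IsMulCommutative G) : Subgroup.center G = ⊥ :=
  ((inferInstance : (Subgroup.center G).Normal).eq_bot_or_eq_top).resolve_right fun h =>
    hna (Subgroup.center_eq_top_iff.1 h)

theorem no_index_two (hna : ¬ IsMulCommutative G) (H : Subgroup G) : H.index ≠ 2 := by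
  intro hH
  haveI := Subgroup.normal_of_index_eq_two hH
  rcases (inferInstance : H.Normal).eq_bot_or_eq_top with h | h
  · rw [h, Subgroup.index_bot] at hH
    haveI : Fact (Nat.Prime 2) := ⟨Nat.prime_two⟩
    haveI := isCyclic_of_prime_card hH
    exact hna IsCyclic.commutative
  · rw [h, Subgroup.index_top] at hH
    exact absurd hH (by norm_num)

theorem not_quaternion (hna : ¬ IsMulCommutative G) (h2 : 2 ∣ Nat.card G) (S : Sylow 2 G) (n : ℕ)
    (e : (S : Subgroup G) ≃* QuaternionGroup (2 ^ (n + 1))) : False := by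
  have h := Cfsg.Agent.S0201.result S n e fun N hN hodd => (hN.eq_bot_or_eq_top).resolve_right fun h => by
    rw [h, Subgroup.card_top] at hodd
    exact Nat.not_even_iff_odd.2 hodd (even_iff_two_dvd.2 h2)
  rw [center_eq_bot hna, Subgroup.card_bot] at h
  exact absurd h (by norm_num)

theorem q8_invol : ∀ x : QuaternionGroup 2, x * x = 1 → x = 1 ∨ x = QuaternionGroup.a 2 := by decide

/-- The Sylow 2-subgroups are dihedral and are the centralisers of their central involutions. -/
theorem dihedral_sylow (hna : ¬ IsMulCommutative G) (h2 : 2 ∣ Nat.card G) (hG : SCN G)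
    (S : Sylow 2 G) : ∃ n : ℕ, 2 ≤ n ∧ Nonempty ((S : Subgroup G) ≃* DihedralGroup n) ∧
      ∃ t : G, orderOf t = 2 ∧ t ∈ (S : Subgroup G) ∧ (∀ s ∈ (S : Subgroup G), s * t = t * s) ∧
        centralizer ({t} : Set G) = (S : Subgroup G) := by
  classical
  haveI : Fact (Nat.Prime 2) := ⟨Nat.prime_two⟩
  have hS2 : IsPGroup 2 (S : Subgroup G) := S.isPGroup'
  have hncyc := SmallGroups.not_isCyclic_sylow_two hna h2 S
  -- a central involution and a further one
  obtain ⟨t, htS, ht, htZ⟩ : ∃ t : (S : Subgroup G), t ∈ Subgroup.center (S : Subgroup G) ∧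
      orderOf t = 2 ∧ ∀ s : (S : Subgroup G), s * t = t * s := by
    haveI : Nontrivial (S : Subgroup G) :=
      (subsingleton_or_nontrivial _).resolve_left fun h => hncyc inferInstance
    haveI := hS2.center_nontrivial
    obtain ⟨z, hz⟩ := exists_prime_orderOf_dvd_card' 2
      (show 2 ∣ Nat.card (Subgroup.center (S : Subgroup G)) by
        obtain ⟨k, hk⟩ := IsPGroup.iff_card.1 (hS2.to_subgroup (Subgroup.center _))
        have h1 := Finite.one_lt_card (α := Subgroup.center (S : Subgroup G))
        rw [hk] at h1 ⊢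
        exact dvd_pow_self 2 fun h => by rw [h] at h1; exact lt_irrefl _ h1)
    exact ⟨z, z.2, by rw [Subgroup.orderOf_coe]; exact hz, Subgroup.mem_center_iff.1 z.2⟩
  obtain ⟨v, hv, hvt⟩ : ∃ v : (S : Subgroup G), orderOf v = 2 ∧ v ≠ t := by
    by_contra hall
    push Not at hall
    rcases cyclic_or_quaternion_of_unique_involution hS2
      (fun x y hx hy => (hall x hx).trans (hall y hy).symm) with h | ⟨n, hn, -, ⟨e⟩⟩
    · exact hncyc h
    · obtain ⟨m, rfl⟩ : ∃ m, n = m + 2 := ⟨n - 2, by omega⟩
      exact not_quaternion hna h2 S m e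
  have ht' : orderOf (t : G) = 2 := (Subgroup.orderOf_coe t).trans ht
  have hv' : orderOf (v : G) = 2 := (Subgroup.orderOf_coe v).trans hv
  have h4 : Nat.card (centralizer ({t, v} : Set (S : Subgroup G))) ≤ 4 := by
    refine le_trans ?_ (card_centralizer_four hG ht' hv' (congrArg Subtype.val (htZ v).symm)
      (fun h => hvt (Subtype.ext h).symm))
    refine Nat.card_le_card_of_injective (fun x => (⟨(x.1 : G), ?_, ?_⟩ :
      ↥(centralizer ({(t : G)} : Set G) ⊓ centralizer ({(v : G)} : Set G)))) fun a b h =>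
      Subtype.ext (Subtype.ext (congrArg Subtype.val h :))
    · exact mem_centralizer_singleton_iff.2
        (congrArg Subtype.val (mem_centralizer_iff.1 x.2 t (by simp)).symm)
    · exact mem_centralizer_singleton_iff.2
        (congrArg Subtype.val (mem_centralizer_iff.1 x.2 v (by simp)).symm)
  obtain ⟨N, hN⟩ := IsPGroup.iff_card.1 hS2
  have hN2 : 2 ≤ N := by
    by_contra hlt
    have hd : Nat.card (S : Subgroup G) ∣ 2 := hN ▸ (pow_dvd_pow 2 (show N ≤ 1 by omega)).trans (pow_one 2).dvd
    rcases (Nat.dvd_prime Nat.prime_two).1 hd with h | h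
    · exact hncyc (haveI := (Nat.card_eq_one_iff_unique.1 h).1; inferInstance)
    · exact hncyc (isCyclic_of_prime_card h)
  rcases hN2.eq_or_lt with hN4 | hN3
  · -- Sylow subgroups of order four
    have htS4 : Nat.card (S : Subgroup G) = 2 * 2 := by rw [hN, ← hN4]; rfl
    obtain ⟨e⟩ := equiv_dihedral_of_generators (a := t) (b := v) ht htS4
      (fun h => by
        obtain ⟨i, hi⟩ := h
        exact not_cyclic_of_two (H := zpowers (t : G)) (mem_zpowers _)
          ⟨i, by simpa using congrArg Subtype.val hi⟩ ht' hv' (fun h => hvt (Subtype.ext h).symm)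
          inferInstance)
      (TwoFusion.involution_mul_self hv)
      (by rw [htZ v, mul_inv_cancel_right, TwoFusion.involution_inv ht])
    refine ⟨2, le_rfl, ⟨e⟩, t, ht', t.2, fun s hs => congrArg Subtype.val (htZ ⟨s, hs⟩), ?_⟩
    refine centralizer_le_sylow hG S (A := zpowers (t : G)) (zpowers_le.2 t.2) inferInstance ?_
      (mem_zpowers _) ht' (fun s hs => congrArg Subtype.val (htZ ⟨s, hs⟩)) v.2 hv' ?_
    · rw [Nat.card_zpowers, ht', htS4]
    · intro h
      exact not_cyclic_of_two (H := zpowers (t : G)) (mem_zpowers _) h ht' hv'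
        (fun h => hvt (Subtype.ext h).symm) inferInstance
  -- larger Sylow subgroups
  obtain ⟨n, rfl⟩ : ∃ n, N = n + 1 := ⟨N - 1, by omega⟩
  set W := Subgroup.closure ({t, v} : Set (S : Subgroup G)) with hW
  have hWC : centralizer (W : Set (S : Subgroup G)) = centralizer ({t, v} : Set (S : Subgroup G)) :=
    Subgroup.centralizer_closure _
  have hWle : W ≤ centralizer (W : Set (S : Subgroup G)) := by
    rw [hWC, hW, Subgroup.closure_le]
    rintro x (rfl | rfl) <;> rw [SetLike.mem_coe, mem_centralizer_iff] <;> rintro y (rfl | rfl)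
    · rfl
    · exact htZ _
    · exact (htZ _).symm
    · rfl
  have hW4 : 4 ≤ Nat.card W := by
    have hnc : ¬ IsCyclic W := fun hc => by
      haveI := hc
      exact not_cyclic_of_two (H := W) (subset_closure (Set.mem_insert _ _))
        (subset_closure (Or.inr rfl)) ht hv hvt.symm hc
    by_contra hlt
    obtain ⟨j, hj⟩ := IsPGroup.iff_card.1 (hS2.to_subgroup W)
    have hj2 : j < 2 := by
      by_contra h
      have := Nat.pow_le_pow_right (show 0 < 2 by norm_num) (show 2 ≤ j by omega)
      omega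
    interval_cases j
    · exact hnc (haveI := (Nat.card_eq_one_iff_unique.1 hj).1; inferInstance)
    · exact hnc (isCyclic_of_prime_card (p := 2) hj)
  have hCle : Nat.card (centralizer (W : Set (S : Subgroup G))) ≤ 4 := hWC ▸ h4
  have hWeq : centralizer (W : Set (S : Subgroup G)) = W :=
    (Subgroup.eq_of_le_of_card_ge hWle (hCle.trans hW4)).symm
  have hWcard : Nat.card W = 2 ^ 2 := le_antisymm (by rw [← hWeq]; exact hCle) hW4
  have hcl := Cfsg.Agent.S0112.result (n + 1) hN W hWcard hWeq
  obtain ⟨A, hAc, hA2⟩ := Cfsg.Agent.S0113.result (n + 1) (by omega) hN hcl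
  obtain ⟨a, haA⟩ := (Subgroup.isCyclic_iff_exists_zpowers_eq_top _).1 hAc
  have ha : orderOf a = 2 ^ n := by
    have h1 := A.card_mul_index
    rw [hA2, hN, ← haA, Nat.card_zpowers, pow_succ] at h1
    omega
  obtain ⟨x, y, hxy⟩ : ∃ x y : (S : Subgroup G), x * y ≠ y * x := by
    by_contra hall
    push Not at hall
    have h1 : (⊤ : Subgroup (S : Subgroup G)) ≤ centralizer (W : Set (S : Subgroup G)) :=
      fun g _ => mem_centralizer_iff.2 fun w _ => hall w g
    have := Subgroup.card_le_of_le h1
    rw [Subgroup.card_top, hN] at this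
    have := Nat.pow_le_pow_right (show 0 < 2 by norm_num) (show 3 ≤ n + 1 by omega)
    omega
  obtain ⟨b, hb⟩ := cyclic_index_two_cases hN ha ⟨x, y, hxy⟩
  rcases hb with ⟨hM, hb2 | hb2⟩ | hQ | ⟨hn3, hE, -⟩
  · obtain ⟨e⟩ := hM.equiv_dihedral hb2
    have h1 : 2 ≤ 2 ^ n := le_self_pow₀ (by norm_num) (by omega)
    refine ⟨2 ^ n, h1, ⟨e⟩, ?_⟩
    have hz := hM.orderOf_invol
    have hzc : a ^ (2 ^ (n - 1)) ∈ Subgroup.center (S : Subgroup G) := by
      rw [hM.center_eq]; exact mem_zpowers _
    refine ⟨((a ^ (2 ^ (n - 1)) : (S : Subgroup G)) : G), (Subgroup.orderOf_coe _).trans hz,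
      Subtype.property _, fun s hs => congrArg Subtype.val (Subgroup.mem_center_iff.1 hzc ⟨s, hs⟩), ?_⟩
    refine centralizer_le_sylow hG S (A := (zpowers a).map (S : Subgroup G).subtype)
      (Subgroup.map_subtype_le _) ?_ ?_ ⟨_, Subgroup.npow_mem_zpowers a _, rfl⟩
      ((Subgroup.orderOf_coe _).trans hz)
      (fun s hs => congrArg Subtype.val (Subgroup.mem_center_iff.1 hzc ⟨s, hs⟩))
      b.2 ?_ ?_
    · rw [MonoidHom.map_zpowers]; infer_instance
    · rw [Subgroup.card_map_of_injective (S : Subgroup G).subtype_injective, Nat.card_zpowers, ha, hN]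
      ring
    · rw [Subgroup.orderOf_coe]
      exact orderOf_eq_prime (by rw [pow_two]; exact hb2) fun h => hM.notMem (h ▸ one_mem _)
    · rintro ⟨w, hw, hwb⟩
      exact hM.notMem (((S : Subgroup G).subtype_injective hwb) ▸ hw)
  · exfalso
    obtain ⟨e⟩ := hM.equiv_quaternion hb2
    obtain ⟨m, rfl⟩ : ∃ m, n = m + 2 := ⟨n - 2, by omega⟩
    exact not_quaternion hna h2 S m e
  · exfalso
    have hno := no_index_two hna
    have hq : IsConj (TwoFusion.MC.qG n a) ((a ^ (1 : ℤ) * b : (S : Subgroup G)) : G) := by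
      by_contra hq
      obtain ⟨H, hH⟩ := TwoFusion.QD.exists_index_two_dihedral hQ hq
      exact hno H hH
    have hsq := TwoFusion.QD.sq_odd hQ (i := 1) (by norm_num)
    obtain ⟨X, hXS, hX, habX⟩ :=
      TwoFusion.MC.exists_q8G hQ.toMaxClassData (TwoFusion.QD.out hQ 1) hsq
    have h6 := TwoFusion.QD.rQ_six_of_conj hQ hq hX hXS
    set z : (S : Subgroup G) := a ^ (2 ^ (n - 1)) with hzdef
    have hz : orderOf (z : G) = 2 := (Subgroup.orderOf_coe _).trans hQ.orderOf_invol
    have hzc : z ∈ Subgroup.center (S : Subgroup G) := by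
      rw [hzdef, hQ.toMaxClassData.center_eq]; exact mem_zpowers _
    have hzX : (z : G) ∈ X := by
      have e0 : (z : G) = ((a ^ (1 : ℤ) * b : (S : Subgroup G)) : G) *
          ((a ^ (1 : ℤ) * b : (S : Subgroup G)) : G) := by rw [← Subgroup.coe_mul, hsq]
      rw [e0]
      exact mul_mem habX habX
    have hCz : centralizer ({(z : G)} : Set G) = (S : Subgroup G) := by
      refine centralizer_le_sylow hG S (A := (zpowers a).map (S : Subgroup G).subtype)
        (Subgroup.map_subtype_le _) ?_ ?_ ⟨_, Subgroup.npow_mem_zpowers a _, rfl⟩ hz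
        (fun s hs => congrArg Subtype.val (Subgroup.mem_center_iff.1 hzc ⟨s, hs⟩))
        b.2 ?_ ?_
      · rw [MonoidHom.map_zpowers]; infer_instance
      · rw [Subgroup.card_map_of_injective (S : Subgroup G).subtype_injective, Nat.card_zpowers, ha, hN]
        ring
      · rw [Subgroup.orderOf_coe]
        exact orderOf_eq_prime (by rw [pow_two]; exact hQ.y_sq) fun h => hQ.notMem (h ▸ one_mem _)
      · rintro ⟨w, hw, hwb⟩
        exact hQ.notMem (((S : Subgroup G).subtype_injective hwb) ▸ hw)
    have hNX : Subgroup.normalizer (X : Set G) ≤ (S : Subgroup G) := by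
      intro g hg
      rw [← hCz, mem_centralizer_singleton_iff]
      obtain ⟨e⟩ := hX
      have hgz : g * z * g⁻¹ ∈ X := (Subgroup.mem_normalizer_iff.1 hg _).1 hzX
      have hinv : ∀ x : X, orderOf (x : G) = 2 → e x = QuaternionGroup.a 2 := fun x hx => by
        refine (q8_invol (e x) ?_).resolve_left fun h => ?_
        · rw [← map_mul, show x * x = 1 from Subtype.ext (TwoFusion.involution_mul_self hx), map_one]
        · exact TwoFusion.involution_ne_one hx (congrArg Subtype.val (e.injective (h.trans (map_one e).symm)))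
      have := e.injective ((hinv ⟨_, hgz⟩ ((TwoFusion.orderOf_conj' _ _).trans hz)).trans
        (hinv ⟨_, hzX⟩ hz).symm)
      exact mul_inv_eq_iff_eq_mul.1 (congrArg Subtype.val this)
    have hd : TwoFusion.QD.rQ X ∣ 2 ^ (n + 1) :=
      (Subgroup.index_dvd_card _).trans (hN ▸ Subgroup.card_dvd_of_le hNX)
    rw [h6] at hd
    have := Nat.prime_three.dvd_of_dvd_pow ((show 3 ∣ 6 by norm_num).trans hd)
    omega
  · -- the modular group
    exfalso
    have hacomm : a ^ (2 : ℤ) * b = b * a ^ (2 : ℤ) := by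
      rw [hE.mul_zpow]
      congr 1
      rw [zpow_eq_zpow_iff, ha]
      refine ⟨-1, ?_⟩
      push_cast
      rw [show (2 : ℤ) ^ n = 2 ^ (n - 1) * 2 by rw [← pow_succ, show n - 1 + 1 = n by omega]]
      ring
    have hcen : a ^ (2 : ℤ) ∈ Subgroup.center (S : Subgroup G) := by
      rw [Subgroup.mem_center_iff]
      intro g
      rcases hE.exists_eq g with ⟨i, rfl⟩ | ⟨i, rfl⟩
      · exact ((Commute.refl a).zpow_zpow i 2).eq
      · exact ((((Commute.refl a).zpow_zpow i 2).mul_left (show Commute b (a ^ (2 : ℤ)) from hacomm.symm))).eq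
    have hle : zpowers (a ^ (2 : ℤ)) ≤ W := by
      rw [← hWeq, zpowers_le]
      exact Subgroup.center_le_centralizer _ hcen
    have hord : orderOf (a ^ (2 : ℤ)) = 2 ^ (n - 1) := by
      rw [show (2 : ℤ) = ((2 : ℕ) : ℤ) from rfl, zpow_natCast, orderOf_pow, ha,
        Nat.gcd_eq_right (dvd_pow_self 2 (by omega : n ≠ 0))]
      nth_rewrite 1 [show n = n - 1 + 1 by omega]
      rw [pow_succ, Nat.mul_div_cancel _ (by norm_num)]
    have h5 := Subgroup.card_le_of_le hle
    rw [Nat.card_zpowers, hord, hWcard] at h5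
    have hn : n = 3 := by
      have : n - 1 ≤ 2 := (Nat.pow_le_pow_iff_right (by norm_num)).1 h5
      omega
    subst hn
    have hW' : zpowers (a ^ (2 : ℤ)) = W := Subgroup.eq_of_le_of_card_ge hle (by
      rw [Nat.card_zpowers, hord, hWcard])
    exact not_cyclic_of_two (H := W) (subset_closure (Set.mem_insert _ _))
      (subset_closure (Or.inr rfl)) ht hv hvt.symm (hW' ▸ inferInstance)

end Simple

end Cfsg.Agent.SelfCentNC
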